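import Cfsg.Agent.Lib.Helper58.G2Main
import Cfsg.Agent.Lib.Helper89.CosetCert
import Cfsg.Agent.Lib.Helper89.SafePres

/-!
# `G₂(3)` (helper58's table data on the 728 long root vectors): words of words

Generators for safe presentations are given as words in the four basic root elements of `D0`; a word in these
generators is evaluated by substitution and checked on the 14 check points of `D0`.
-/

set_option autoImplicit false
set_option maxRecDepth 100000

namespace Cfsg.Agent.Lib.Helper93.G23

open Cfsg.Agent.Lib.Helper89 Cfsg.Agent.Lib.Helper89.TableChain2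
open Cfsg.Agent.Lib.Helper89.CosetCert Cfsg.Agent.Lib.Helper89.SafePres
open Cfsg.Agent.Lib.Helper58.G2Vec Cfsg.Agent.Lib.Helper58.G2Data Cfsg.Agent.Lib.Helper58.G2Gen
open Cfsg.Agent.Lib.Helper58.G2Act Cfsg.Agent.Lib.Helper58.G2Main

/-- substitution of letter words -/
def sub (LW : List (List ℕ)) (w : List ℕ) : List ℕ := w.flatMap fun l => LW.getD l []

theorem sub_cons (LW : List (List ℕ)) (l : ℕ) (w : List ℕ) :
    sub LW (l :: w) = LW.getD l [] ++ sub LW w := by
  simp [sub]

/-- a word in `D0` acts trivially on the check points -/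
def trivOK (u : List ℕ) : Bool :=
  u.all (fun c => decide (c < 4)) && chkL.all (fun x => act tab0 u x == x)

theorem ev_one_of_trivOK (u : List ℕ) (h : trivOK u = true) : D0.ev u = 1 := by
  unfold trivOK at h
  rw [Bool.and_eq_true, List.all_eq_true, List.all_eq_true] at h
  rw [← D0.ev_nil]
  apply D0.ev_eq_of_act (fun c hc => of_decide_eq_true (h.1 c hc)) (fun c hc => by simp at hc)
  intro x hx
  rw [act_nil]
  exact beq_iff_eq.1 (h.2 x hx)

/-- two words in `D0` act in the same way on the check points -/
def sameOK (u v : List ℕ) : Bool :=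
  u.all (fun c => decide (c < 4)) && v.all (fun c => decide (c < 4)) &&
    chkL.all (fun x => act tab0 u x == act tab0 v x)

theorem ev_eq_of_sameOK (u v : List ℕ) (h : sameOK u v = true) : D0.ev u = D0.ev v := by
  unfold sameOK at h
  rw [Bool.and_eq_true, Bool.and_eq_true, List.all_eq_true, List.all_eq_true, List.all_eq_true] at h
  apply D0.ev_eq_of_act (fun c hc => of_decide_eq_true (h.1.1 c hc))
    (fun c hc => of_decide_eq_true (h.1.2 c hc))
  intro x hx
  exact beq_iff_eq.1 (h.2 x hx)

section Sys

variable (LW : List (List ℕ)) (g : ℕ → GG) (k : ℕ)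
  (hlv : ∀ l < 2 * k, lv g l = D0.ev (LW.getD l []))

include hlv in
theorem ev_sub (w : List ℕ) (hw : ∀ l ∈ w, l < 2 * k) : ev g w = D0.ev (sub LW w) := by
  induction w with
  | nil => simp [ev, sub, Data.ev]
  | cons l w ih =>
    have h1 : ev g (l :: w) = lv g l * ev g w := by simp [ev]
    rw [h1, sub_cons, D0.ev_append, hlv l (hw l (by simp)), ih (fun c hc => hw c (by simp [hc]))]

/-- `Bool` test: the words of a list are relators -/
def relsOK (rs : List Word) : Bool :=
  rs.all fun r => r.all (fun l => decide (l < 2 * k)) && trivOK (sub LW r)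

include hlv in
theorem relsOK_valid (rs : List Word) (h : relsOK LW k rs = true) : ∀ r ∈ rs, ev g r = 1 := by
  intro r hr
  unfold relsOK at h
  rw [List.all_eq_true] at h
  have h1 := h r hr
  rw [Bool.and_eq_true, List.all_eq_true] at h1
  rw [ev_sub LW g k hlv r (fun l hl => of_decide_eq_true (h1.1 l hl))]
  exact ev_one_of_trivOK _ h1.2

end Sys

/-- the basic root elements have order three -/
theorem gen_cube : ∀ j < 4, D0.gen j * D0.gen j * D0.gen j = 1 := by
  intro j hj
  have h : ∀ j < 4, trivOK [j, j, j] = true := by decide +kernel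
  have := ev_one_of_trivOK _ (h j hj)
  rwa [D0.ev_cons, D0.ev_cons, D0.ev_cons, D0.ev_nil, mul_one, ← mul_assoc] at this

theorem gen_inv (j : ℕ) (hj : j < 4) : (D0.gen j)⁻¹ = D0.ev [j, j] := by
  rw [D0.ev_cons, D0.ev_cons, D0.ev_nil, mul_one]
  have h := gen_cube j hj
  rw [mul_assoc] at h
  exact inv_eq_of_mul_eq_one_right h

end Cfsg.Agent.Lib.Helper93.G23
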