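import Cfsg.Agent.Lib.Helper93.StemCyc

/-!
# The criterion of `StemCyc` with additional relators (helper93)

Besides the power and conjugation relators, the presentation may contain relators `r ^ e`, where `r` is a relator
of the base group `G` and `e` is the exponent bound for the kernels: the value of `r` on lifts of the generators
lies in the kernel.  This is needed for generators of even order (involutions), whose conjugation relators never
kill the sign character.
-/

set_option autoImplicit false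

namespace Cfsg.Agent.Lib.Helper93.StemCyc

open Cfsg.Agent.Lib.Helper89.CosetCert Cfsg.Agent.Lib.Helper89.StemSafe
open Cfsg.Agent.Lib.Helper89.SafePres Cfsg.Agent.Lib.Helper89.SafePres2
open scoped commutatorElement

universe u

theorem exists_surj_ker_x {G : Type u} [Group G] [Finite G] (e : ℕ) (he : 0 < e)
    (k : ℕ) (g : ℕ → G) (ord : ℕ → ℕ)
    (hord : ∀ i, g i ^ ord i = 1) (hcop : ∀ i, (ord i).Coprime e)
    (hgen : Subgroup.closure {y | ∃ i < k, y = g i} = ⊤)
    (srels : List SRel) (hvalid : ∀ r ∈ srels, ev g r.word = 1)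
    (xrels : List Word) (hxvalid : ∀ r ∈ xrels, ev g r = 1)
    {Gam : Type u} [Group Gam] [Finite Gam] (sig : Gam →* G) (tt : ℕ → Gam)
    (hsig : ∀ i, sig (tt i) = g i) (htt : ∀ i, tt i ^ ord i = 1)
    (hstt : ∀ r ∈ srels, ev tt r.word = 1)
    (hxtt : ∀ r ∈ xrels, ev tt r ^ e = 1)
    (hgenGam : Subgroup.closure {y | ∃ i < k, y = tt i} = ⊤)
    (hbound : ∀ (L : Type u) [Group L] [Finite L] (t : ℕ → L), (∀ i, t i ^ ord i = 1) →
      (∀ r ∈ srels, ev t r.word = 1) → (∀ r ∈ xrels, ev t r ^ e = 1) →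
      Nat.card (Subgroup.closure {y | ∃ i < k, y = t i}) ≤ Nat.card Gam)
    {Γ : Type u} [Group Γ] [Finite Γ] (σ : Γ →* G) (hσ : Cfsg.IsStemExtension σ)
    (hek : ∀ z ∈ σ.ker, z ^ e = 1) :
    ∃ π : sig.ker →* σ.ker, Function.Surjective π := by
  obtain ⟨hsurj, hcen, hcomm⟩ := hσ
  have hex : ∀ i, ∃ γ : Γ, σ γ = g i ∧ γ ^ ord i = 1 := fun i =>
    good_exists' σ e hsurj hcen hek he (g i) (ord i) (hord i) (hcop i)
  choose t hσt ht using hex
  have hfun : (fun i => σ (t i)) = g := funext hσt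
  have hrelΓ : ∀ r ∈ srels, ev t r.word = 1 := by
    intro r hr
    apply lift_srel' σ e hcen hek t ord ht hcop r
    rw [hfun]
    exact hvalid r hr
  have hxΓ : ∀ r ∈ xrels, ev t r ^ e = 1 := by
    intro r hr
    apply hek
    rw [MonoidHom.mem_ker, ev_map_hom σ t r, hfun]
    exact hxvalid r hr
  -- the diagonal subgroup
  let s : ℕ → Γ × Gam := fun i => (t i, tt i)
  have hs_pow : ∀ i, s i ^ ord i = 1 := by
    intro i
    apply Prod.ext
    · rw [Prod.pow_fst]; exact ht i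
    · rw [Prod.pow_snd]; exact htt i
  have hs_rel : ∀ r ∈ srels, ev s r.word = 1 := by
    intro r hr
    rw [show s = fun i => (t i, tt i) from rfl, ev_prod, hrelΓ r hr, hstt r hr]
    rfl
  have hs_x : ∀ r ∈ xrels, ev s r ^ e = 1 := by
    intro r hr
    rw [show s = fun i => (t i, tt i) from rfl, ev_prod]
    apply Prod.ext
    · rw [Prod.pow_fst]; exact hxΓ r hr
    · rw [Prod.pow_snd]; exact hxtt r hr
  set Δ : Subgroup (Γ × Gam) := Subgroup.closure {y | ∃ i < k, y = s i} with hΔ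
  have hΔcard : Nat.card Δ ≤ Nat.card Gam := hbound (Γ × Gam) s hs_pow hs_rel hs_x
  have hmap2 : Δ.map (MonoidHom.snd Γ Gam) = ⊤ := by
    rw [hΔ, map_closure_eq (MonoidHom.snd Γ Gam) k s tt (fun i => rfl), hgenGam]
  set T : Subgroup Γ := Subgroup.closure {y | ∃ i < k, y = t i} with hT
  have hmap1 : Δ.map (MonoidHom.fst Γ Gam) = T := by
    rw [hΔ, map_closure_eq (MonoidHom.fst Γ Gam) k s t (fun i => rfl)]
  have hmapT : T.map σ = ⊤ := by
    rw [hT, map_closure_eq σ k t g hσt, hgen]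
  have hKT : σ.ker ≤ T := le_trans hcomm (commutator_le_of_map_eq_top σ hcen T hmapT)
  let p2 : Δ →* Gam := (MonoidHom.snd Γ Gam).comp Δ.subtype
  let p1 : Δ →* Γ := (MonoidHom.fst Γ Gam).comp Δ.subtype
  have hp2s : Function.Surjective p2 := by
    intro y
    have : y ∈ Δ.map (MonoidHom.snd Γ Gam) := by rw [hmap2]; trivial
    obtain ⟨x, hx, rfl⟩ := this
    exact ⟨⟨x, hx⟩, rfl⟩
  have hp2b : Function.Bijective p2 := by
    have hge : Nat.card Gam ≤ Nat.card Δ := Nat.card_le_card_of_surjective p2 hp2s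
    exact (Nat.bijective_iff_surjective_and_card p2).2 ⟨hp2s, le_antisymm hΔcard hge⟩
  -- the two maps to `G` agree on `Δ`
  have hagree : ∀ δ : Δ, σ (p1 δ) = sig (p2 δ) := by
    intro δ
    have hEq : Set.EqOn (σ.comp (MonoidHom.fst Γ Gam)) (sig.comp (MonoidHom.snd Γ Gam))
        {y | ∃ i < k, y = s i} := by
      rintro y ⟨i, _, rfl⟩
      show σ (t i) = sig (tt i)
      rw [hσt, hsig]
    exact MonoidHom.eqOn_closure hEq δ.2
  let eqv : Δ ≃* Gam := MulEquiv.ofBijective p2 hp2b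
  have heqv : ∀ δ : Δ, eqv δ = p2 δ := fun δ => rfl
  let φ : Gam →* Γ := p1.comp eqv.symm.toMonoidHom
  have hφ : ∀ x : Gam, σ (φ x) = sig x := by
    intro x
    show σ (p1 (eqv.symm x)) = sig x
    rw [hagree, ← heqv, MulEquiv.apply_symm_apply]
  have hφker : ∀ x : sig.ker, φ x.1 ∈ σ.ker := by
    intro x
    rw [MonoidHom.mem_ker, hφ]
    exact MonoidHom.mem_ker.1 x.2
  refine ⟨(φ.comp sig.ker.subtype).codRestrict σ.ker hφker, ?_⟩
  rintro ⟨z, hz⟩
  have hzT : z ∈ Δ.map (MonoidHom.fst Γ Gam) := by rw [hmap1]; exact hKT hz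
  obtain ⟨d, hd, hdz⟩ := hzT
  have hx : p2 ⟨d, hd⟩ ∈ sig.ker := by
    rw [MonoidHom.mem_ker, ← hagree]
    show σ ((MonoidHom.fst Γ Gam) d) = 1
    rw [hdz]
    exact MonoidHom.mem_ker.1 hz
  refine ⟨⟨p2 ⟨d, hd⟩, hx⟩, ?_⟩
  apply Subtype.ext
  show p1 (eqv.symm (p2 ⟨d, hd⟩)) = z
  rw [← heqv, MulEquiv.symm_apply_apply]
  exact hdz


end Cfsg.Agent.Lib.Helper93.StemCyc
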