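import Cfsg.Agent.Lib.Helper89.CosetCert

set_option autoImplicit false

namespace Cfsg.Agent.Lib.Helper93.G23

open Cfsg.Agent.Lib.Helper89.CosetCert

/-- the odd relator `x₁ x₂ x₃` -/
def xrel : Word := [0, 2, 4]

/-- a word for the central element of order three of the cover; it is a relator of the group -/
def wz : Word := [0, 6, 24, 0, 6, 24]

/-- `n` copies of a word -/
def wrep (n : ℕ) (w : Word) : Word := (List.replicate n w).flatten

theorem ev_wrep {L : Type*} [Group L] (t : ℕ → L) (n : ℕ) (w : Word) : ev t (wrep n w) = ev t w ^ n := by
  unfold wrep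
  induction n with
  | zero => simp
  | succ n ih => rw [List.replicate_succ, List.flatten_cons, ev_append, ih, pow_succ']

end Cfsg.Agent.Lib.Helper93.G23
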