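import Cfsg.Agent.Lib.Helper93.G23.Base
import Cfsg.Agent.Lib.Helper93.G23.Words
import Cfsg.Agent.Lib.Helper93.G23D.T1Rels
import Cfsg.Agent.Lib.Helper93.G23D.T2Rels
import Cfsg.Agent.Lib.Helper93.G23D.T3Rels
import Cfsg.Agent.Lib.Helper93.G23D.T4Rels
import Cfsg.Agent.Lib.Helper93.G23D.T5Rels

/-! # `G₂(3)`: fourteen involutions as generators, for the prime `3` -/

set_option autoImplicit false
set_option maxRecDepth 1000000
set_option maxHeartbeats 0

namespace Cfsg.Agent.Lib.Helper93.G23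

open Cfsg.Agent.Lib.Helper89 Cfsg.Agent.Lib.Helper89.TableChain2
open Cfsg.Agent.Lib.Helper89.CosetCert Cfsg.Agent.Lib.Helper89.SafePres
open Cfsg.Agent.Lib.Helper58.G2Vec Cfsg.Agent.Lib.Helper58.G2Data Cfsg.Agent.Lib.Helper58.G2Gen
open Cfsg.Agent.Lib.Helper58.G2Act Cfsg.Agent.Lib.Helper58.G2Main

/-- the involutions as words in the basic root elements -/
def GWD : List (List ℕ) := [[1, 0, 1, 0], [3, 2, 3, 2], [3, 2, 3, 2, 1, 0, 1, 0], [0, 2, 2, 3, 2, 1, 3, 2, 2], [1, 3, 2, 2, 0, 2, 2, 3, 2], [2, 3, 3, 2, 1, 0, 1, 0], [2, 1, 0, 1, 0], [3, 1, 0, 1, 0], [1, 3, 0, 1, 0], [1, 0, 2, 1, 0], [1, 0, 1, 3, 0], [0, 2, 1, 0, 1], [0, 1, 3, 0, 1], [0, 1, 0, 2, 1]]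

/-- letter words of the involution generators -/
def LWD : List (List ℕ) := [[1, 0, 1, 0], [1, 0, 1, 0], [3, 2, 3, 2], [3, 2, 3, 2], [3, 2, 3, 2, 1, 0, 1, 0], [3, 2, 3, 2, 1, 0, 1, 0], [0, 2, 2, 3, 2, 1, 3, 2, 2], [0, 2, 2, 3, 2, 1, 3, 2, 2], [1, 3, 2, 2, 0, 2, 2, 3, 2], [1, 3, 2, 2, 0, 2, 2, 3, 2], [2, 3, 3, 2, 1, 0, 1, 0], [2, 3, 3, 2, 1, 0, 1, 0], [2, 1, 0, 1, 0], [2, 1, 0, 1, 0], [3, 1, 0, 1, 0], [3, 1, 0, 1, 0], [1, 3, 0, 1, 0], [1, 3, 0, 1, 0], [1, 0, 2, 1, 0], [1, 0, 2, 1, 0], [1, 0, 1, 3, 0], [1, 0, 1, 3, 0], [0, 2, 1, 0, 1], [0, 2, 1, 0, 1], [0, 1, 3, 0, 1], [0, 1, 3, 0, 1], [0, 1, 0, 2, 1], [0, 1, 0, 2, 1]]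

/-- the generators in the ambient general linear group -/
def gD0 (i : ℕ) : GG := if i < 14 then D0.ev (GWD.getD i []) else 1

theorem GWD_lt : ∀ i < 14, ∀ c ∈ GWD.getD i [], c < 4 := by decide

theorem GWD_sq_ok : ∀ i < 14, trivOK (GWD.getD i [] ++ GWD.getD i []) = true := by decide +kernel

theorem gD0_sq (i : ℕ) : gD0 i * gD0 i = 1 := by
  unfold gD0
  split_ifs with h
  · rw [← D0.ev_append]
    exact ev_one_of_trivOK _ (GWD_sq_ok i h)
  · exact mul_one 1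

theorem gD0_inv (i : ℕ) : (gD0 i)⁻¹ = gD0 i := inv_eq_of_mul_eq_one_right (gD0_sq i)

theorem LWD_even : ∀ i < 14, LWD.getD (2 * i) [] = GWD.getD i [] := by decide

theorem LWD_odd : ∀ i < 14, LWD.getD (2 * i + 1) [] = GWD.getD i [] := by decide

theorem lvD : ∀ l < 2 * 14, lv gD0 l = D0.ev (LWD.getD l []) := by
  intro l hl
  rcases Nat.even_or_odd' l with ⟨i, rfl | rfl⟩
  · have hi : i < 14 := by omega
    rw [lv_two_mul, LWD_even i hi]
    simp [gD0, hi]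
  · have hi : i < 14 := by omega
    rw [lv_two_mul_add_one, LWD_odd i hi, gD0_inv]
    simp [gD0, hi]

theorem gD0_mem (i : ℕ) : gD0 i ∈ Gs := by
  unfold gD0
  split_ifs with h
  · exact D0.ev_mem 4 _ (GWD_lt i h)
  · exact Gs.one_mem

/-- the generators -/
def gD (i : ℕ) : ↥Gs := ⟨gD0 i, gD0_mem i⟩

theorem coe_ev_gD (w : Word) : ((ev gD w : ↥Gs) : GG) = ev gD0 w :=
  ev_map_hom Gs.subtype gD w

theorem gD_pow (i : ℕ) : gD i ^ 2 = 1 := by
  apply Subtype.ext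
  rw [Subgroup.coe_pow, pow_two]
  exact gD0_sq i

/-- the basic root elements as words in the involutions -/
def HWD : List (List ℕ) := [[4, 6, 4, 6], [4, 8, 4, 8], [12, 0], [14, 0]]

theorem HWD_lt : ∀ j < 4, ∀ l ∈ HWD.getD j [], l < 2 * 14 := by decide

theorem HWD_ok : ∀ j < 4, sameOK (sub LWD (HWD.getD j [])) [j] = true := by decide +kernel

theorem gen_eq_ev (j : ℕ) (hj : j < 4) : D0.gen j = ev gD0 (HWD.getD j []) := by
  rw [ev_sub LWD gD0 14 lvD _ (HWD_lt j hj), ev_eq_of_sameOK _ _ (HWD_ok j hj)]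
  simp [Data.ev]

theorem ev_mem_closure {L : Type*} [Group L] (t : ℕ → L) (k : ℕ) (w : Word) (hw : ∀ l ∈ w, l < 2 * k) :
    ev t w ∈ Subgroup.closure {y | ∃ i < k, y = t i} := by
  induction w with
  | nil => simp [ev]
  | cons l w ih =>
    have h1 : ev t (l :: w) = lv t l * ev t w := by simp [ev]
    rw [h1]
    refine Subgroup.mul_mem _ ?_ (ih fun c hc => hw c (by simp [hc]))
    have hl := hw l (by simp)
    unfold lv
    split_ifs
    · exact Subgroup.subset_closure ⟨l / 2, by omega, rfl⟩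
    · exact Subgroup.inv_mem _ (Subgroup.subset_closure ⟨l / 2, by omega, rfl⟩)

theorem closure_gD0 : Subgroup.closure {y | ∃ i < 14, y = gD0 i} = Gs := by
  apply le_antisymm
  · rw [Subgroup.closure_le]
    rintro y ⟨i, _, rfl⟩
    exact gD0_mem i
  · show Subgroup.closure (D0.S 4) ≤ _
    rw [Subgroup.closure_le]
    rintro y ⟨j, hj, rfl⟩
    rw [gen_eq_ev j hj]
    exact ev_mem_closure gD0 14 _ (HWD_lt j hj)

theorem closure_gD : Subgroup.closure {y | ∃ i < 14, y = gD i} = ⊤ := by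
  have h := map_closure_eq Gs.subtype 14 gD gD0 (fun _ => rfl)
  rw [closure_gD0] at h
  apply Subgroup.map_injective Gs.subtype_injective
  rw [h, ← MonoidHom.range_eq_map, Subgroup.range_subtype]

theorem validD1_ok : relsOK LWD 14 (G23D.T1.srels0.map SRel.word) = true := by decide +kernel

theorem validD1 : ∀ r ∈ G23D.T1.srels, ev gD r.word = 1 := by
  intro r hr
  apply Subtype.ext
  rw [coe_ev_gD]
  exact relsOK_valid LWD gD0 14 lvD _ validD1_ok _ (List.mem_map_of_mem (G23D.T1.mem_srels hr))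

theorem validD2_ok : relsOK LWD 14 (G23D.T2.srels0.map SRel.word) = true := by decide +kernel

theorem validD2 : ∀ r ∈ G23D.T2.srels, ev gD r.word = 1 := by
  intro r hr
  apply Subtype.ext
  rw [coe_ev_gD]
  exact relsOK_valid LWD gD0 14 lvD _ validD2_ok _ (List.mem_map_of_mem (G23D.T2.mem_srels hr))

theorem validD3_ok : relsOK LWD 14 (G23D.T3.srels0.map SRel.word) = true := by decide +kernel

theorem validD3 : ∀ r ∈ G23D.T3.srels, ev gD r.word = 1 := by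
  intro r hr
  apply Subtype.ext
  rw [coe_ev_gD]
  exact relsOK_valid LWD gD0 14 lvD _ validD3_ok _ (List.mem_map_of_mem (G23D.T3.mem_srels hr))

theorem validD4_ok : relsOK LWD 14 (G23D.T4.srels0.map SRel.word) = true := by decide +kernel

theorem validD4 : ∀ r ∈ G23D.T4.srels, ev gD r.word = 1 := by
  intro r hr
  apply Subtype.ext
  rw [coe_ev_gD]
  exact relsOK_valid LWD gD0 14 lvD _ validD4_ok _ (List.mem_map_of_mem (G23D.T4.mem_srels hr))

theorem validD5_ok : relsOK LWD 14 (G23D.T5.srels0.map SRel.word) = true := by decide +kernel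

theorem validD5 : ∀ r ∈ G23D.T5.srels, ev gD r.word = 1 := by
  intro r hr
  apply Subtype.ext
  rw [coe_ev_gD]
  exact relsOK_valid LWD gD0 14 lvD _ validD5_ok _ (List.mem_map_of_mem (G23D.T5.mem_srels hr))

theorem xz_ok : relsOK LWD 14 [xrel, wz] = true := by decide +kernel

theorem ev_xrel : ev gD xrel = 1 := by
  apply Subtype.ext
  rw [coe_ev_gD]
  exact relsOK_valid LWD gD0 14 lvD _ xz_ok _ (by simp)

theorem ev_wz : ev gD wz = 1 := by
  apply Subtype.ext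
  rw [coe_ev_gD]
  exact relsOK_valid LWD gD0 14 lvD _ xz_ok _ (by simp)

end Cfsg.Agent.Lib.Helper93.G23
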