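import Cfsg.Agent.Lib.Helper93.G23.ValidM2p0

set_option autoImplicit false
set_option maxRecDepth 1000000
set_option maxHeartbeats 0
set_option Elab.async false

namespace Cfsg.Agent.Lib.Helper93.G23

open Cfsg.Agent.Lib.Helper93.BigPerm Cfsg.Agent.Lib.Helper89.CosetCert Cfsg.Agent.Lib.Helper89.SafePres

theorem validM2 : ∀ r ∈ G23D.T2.srels0.map SRel.word, ev (Model.gm Md_ok) r = 1 := by
  refine Model.forall_mem_of_getD (G23D.T2.srels0.map SRel.word) [] (fun r => ev (Model.gm Md_ok) r = 1) 3 (by rfl) ?_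
  intro j hj
  interval_cases j
  · exact Model.ev_one_of_chk1 Md_ok _ vM2_0
  · exact Model.ev_one_of_chk1 Md_ok _ vM2_1
  · exact Model.ev_one_of_chk1 Md_ok _ vM2_2

end Cfsg.Agent.Lib.Helper93.G23
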