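import Cfsg.Agent.Lib.Helper93.G23.ModData
import Cfsg.Agent.Lib.Helper93.G23D.T5Rels

set_option autoImplicit false
set_option maxRecDepth 1000000
set_option maxHeartbeats 0
set_option Elab.async false

namespace Cfsg.Agent.Lib.Helper93.G23

open Cfsg.Agent.Lib.Helper93.BigPerm Cfsg.Agent.Lib.Helper89.CosetCert Cfsg.Agent.Lib.Helper89.SafePres

theorem vM5_14 : Md.chk ((G23D.T5.srels0.map SRel.word).getD 14 []) 0 1134 = true := by decide +kernel

theorem vM5_15 : Md.chk ((G23D.T5.srels0.map SRel.word).getD 15 []) 0 1134 = true := by decide +kernel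

theorem vM5_16 : Md.chk ((G23D.T5.srels0.map SRel.word).getD 16 []) 0 1134 = true := by decide +kernel

theorem vM5_17 : Md.chk ((G23D.T5.srels0.map SRel.word).getD 17 []) 0 1134 = true := by decide +kernel

theorem vM5_18 : Md.chk ((G23D.T5.srels0.map SRel.word).getD 18 []) 0 1134 = true := by decide +kernel

theorem vM5_19 : Md.chk ((G23D.T5.srels0.map SRel.word).getD 19 []) 0 1134 = true := by decide +kernel

theorem vM5_20 : Md.chk ((G23D.T5.srels0.map SRel.word).getD 20 []) 0 1134 = true := by decide +kernel

theorem vM5_21 : Md.chk ((G23D.T5.srels0.map SRel.word).getD 21 []) 0 1134 = true := by decide +kernel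

theorem vM5_22 : Md.chk ((G23D.T5.srels0.map SRel.word).getD 22 []) 0 1134 = true := by decide +kernel

theorem vM5_23 : Md.chk ((G23D.T5.srels0.map SRel.word).getD 23 []) 0 1134 = true := by decide +kernel

theorem vM5_24 : Md.chk ((G23D.T5.srels0.map SRel.word).getD 24 []) 0 1134 = true := by decide +kernel

theorem vM5_25 : Md.chk ((G23D.T5.srels0.map SRel.word).getD 25 []) 0 1134 = true := by decide +kernel

theorem vM5_26 : Md.chk ((G23D.T5.srels0.map SRel.word).getD 26 []) 0 1134 = true := by decide +kernel

theorem vM5_27 : Md.chk ((G23D.T5.srels0.map SRel.word).getD 27 []) 0 1134 = true := by decide +kernel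

end Cfsg.Agent.Lib.Helper93.G23
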