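import Cfsg.Agent.Lib.Helper93.G23.ModData
import Cfsg.Agent.Lib.Helper93.G23D.T5Rels

set_option autoImplicit false
set_option maxRecDepth 1000000
set_option maxHeartbeats 0
set_option Elab.async false

namespace Cfsg.Agent.Lib.Helper93.G23

open Cfsg.Agent.Lib.Helper93.BigPerm Cfsg.Agent.Lib.Helper89.CosetCert Cfsg.Agent.Lib.Helper89.SafePres

theorem vM5_28 : Md.chk ((G23D.T5.srels0.map SRel.word).getD 28 []) 0 1134 = true := by decide +kernel

theorem vM5_29 : Md.chk ((G23D.T5.srels0.map SRel.word).getD 29 []) 0 1134 = true := by decide +kernel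

theorem vM5_30 : Md.chk ((G23D.T5.srels0.map SRel.word).getD 30 []) 0 1134 = true := by decide +kernel

theorem vM5_31 : Md.chk ((G23D.T5.srels0.map SRel.word).getD 31 []) 0 1134 = true := by decide +kernel

theorem vM5_32 : Md.chk ((G23D.T5.srels0.map SRel.word).getD 32 []) 0 1134 = true := by decide +kernel

theorem vM5_33 : Md.chk ((G23D.T5.srels0.map SRel.word).getD 33 []) 0 1134 = true := by decide +kernel

theorem vM5_34 : Md.chk ((G23D.T5.srels0.map SRel.word).getD 34 []) 0 1134 = true := by decide +kernel

theorem vM5_35 : Md.chk ((G23D.T5.srels0.map SRel.word).getD 35 []) 0 1134 = true := by decide +kernel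

theorem vM5_36 : Md.chk ((G23D.T5.srels0.map SRel.word).getD 36 []) 0 1134 = true := by decide +kernel

theorem vM5_37 : Md.chk ((G23D.T5.srels0.map SRel.word).getD 37 []) 0 1134 = true := by decide +kernel

theorem vM5_38 : Md.chk ((G23D.T5.srels0.map SRel.word).getD 38 []) 0 1134 = true := by decide +kernel

theorem vM5_39 : Md.chk ((G23D.T5.srels0.map SRel.word).getD 39 []) 0 1134 = true := by decide +kernel

theorem vM5_40 : Md.chk ((G23D.T5.srels0.map SRel.word).getD 40 []) 0 1134 = true := by decide +kernel

theorem vM5_41 : Md.chk ((G23D.T5.srels0.map SRel.word).getD 41 []) 0 1134 = true := by decide +kernel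

end Cfsg.Agent.Lib.Helper93.G23
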