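import Cfsg.Agent.Lib.Helper93.G23.ModData
import Cfsg.Agent.Lib.Helper93.G23D.T5Rels

set_option autoImplicit false
set_option maxRecDepth 1000000
set_option maxHeartbeats 0
set_option Elab.async false

namespace Cfsg.Agent.Lib.Helper93.G23

open Cfsg.Agent.Lib.Helper93.BigPerm Cfsg.Agent.Lib.Helper89.CosetCert Cfsg.Agent.Lib.Helper89.SafePres

theorem vM5_42 : Md.chk ((G23D.T5.srels0.map SRel.word).getD 42 []) 0 1134 = true := by decide +kernel

theorem vM5_43 : Md.chk ((G23D.T5.srels0.map SRel.word).getD 43 []) 0 1134 = true := by decide +kernel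

theorem vM5_44 : Md.chk ((G23D.T5.srels0.map SRel.word).getD 44 []) 0 1134 = true := by decide +kernel

theorem vM5_45 : Md.chk ((G23D.T5.srels0.map SRel.word).getD 45 []) 0 1134 = true := by decide +kernel

theorem vM5_46 : Md.chk ((G23D.T5.srels0.map SRel.word).getD 46 []) 0 1134 = true := by decide +kernel

theorem vM5_47 : Md.chk ((G23D.T5.srels0.map SRel.word).getD 47 []) 0 1134 = true := by decide +kernel

theorem vM5_48 : Md.chk ((G23D.T5.srels0.map SRel.word).getD 48 []) 0 1134 = true := by decide +kernel

theorem vM5_49 : Md.chk ((G23D.T5.srels0.map SRel.word).getD 49 []) 0 1134 = true := by decide +kernel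

theorem vM5_50 : Md.chk ((G23D.T5.srels0.map SRel.word).getD 50 []) 0 1134 = true := by decide +kernel

theorem vM5_51 : Md.chk ((G23D.T5.srels0.map SRel.word).getD 51 []) 0 1134 = true := by decide +kernel

theorem vM5_52 : Md.chk ((G23D.T5.srels0.map SRel.word).getD 52 []) 0 1134 = true := by decide +kernel

theorem vM5_53 : Md.chk ((G23D.T5.srels0.map SRel.word).getD 53 []) 0 1134 = true := by decide +kernel

theorem vM5_54 : Md.chk ((G23D.T5.srels0.map SRel.word).getD 54 []) 0 1134 = true := by decide +kernel

theorem vM5_55 : Md.chk ((G23D.T5.srels0.map SRel.word).getD 55 []) 0 1134 = true := by decide +kernel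

end Cfsg.Agent.Lib.Helper93.G23
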