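import Cfsg.Agent.Lib.Helper93.G23.ModData
import Cfsg.Agent.Lib.Helper93.G23D.T5Rels

set_option autoImplicit false
set_option maxRecDepth 1000000
set_option maxHeartbeats 0
set_option Elab.async false

namespace Cfsg.Agent.Lib.Helper93.G23

open Cfsg.Agent.Lib.Helper93.BigPerm Cfsg.Agent.Lib.Helper89.CosetCert Cfsg.Agent.Lib.Helper89.SafePres

theorem vM5_56 : Md.chk ((G23D.T5.srels0.map SRel.word).getD 56 []) 0 1134 = true := by decide +kernel

theorem vM5_57 : Md.chk ((G23D.T5.srels0.map SRel.word).getD 57 []) 0 1134 = true := by decide +kernel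

theorem vM5_58 : Md.chk ((G23D.T5.srels0.map SRel.word).getD 58 []) 0 1134 = true := by decide +kernel

theorem vM5_59 : Md.chk ((G23D.T5.srels0.map SRel.word).getD 59 []) 0 1134 = true := by decide +kernel

theorem vM5_60 : Md.chk ((G23D.T5.srels0.map SRel.word).getD 60 []) 0 1134 = true := by decide +kernel

theorem vM5_61 : Md.chk ((G23D.T5.srels0.map SRel.word).getD 61 []) 0 1134 = true := by decide +kernel

theorem vM5_62 : Md.chk ((G23D.T5.srels0.map SRel.word).getD 62 []) 0 1134 = true := by decide +kernel

theorem vM5_63 : Md.chk ((G23D.T5.srels0.map SRel.word).getD 63 []) 0 1134 = true := by decide +kernel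

theorem vM5_64 : Md.chk ((G23D.T5.srels0.map SRel.word).getD 64 []) 0 1134 = true := by decide +kernel

theorem vM5_65 : Md.chk ((G23D.T5.srels0.map SRel.word).getD 65 []) 0 1134 = true := by decide +kernel

theorem vM5_66 : Md.chk ((G23D.T5.srels0.map SRel.word).getD 66 []) 0 1134 = true := by decide +kernel

end Cfsg.Agent.Lib.Helper93.G23
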