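import Cfsg.Agent.Lib.Helper93.G23.ValidM5p0
import Cfsg.Agent.Lib.Helper93.G23.ValidM5p1
import Cfsg.Agent.Lib.Helper93.G23.ValidM5p2
import Cfsg.Agent.Lib.Helper93.G23.ValidM5p3
import Cfsg.Agent.Lib.Helper93.G23.ValidM5p4

set_option autoImplicit false
set_option maxRecDepth 1000000
set_option maxHeartbeats 0
set_option Elab.async false

namespace Cfsg.Agent.Lib.Helper93.G23

open Cfsg.Agent.Lib.Helper93.BigPerm Cfsg.Agent.Lib.Helper89.CosetCert Cfsg.Agent.Lib.Helper89.SafePres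

theorem validM5 : ∀ r ∈ G23D.T5.srels0.map SRel.word, ev (Model.gm Md_ok) r = 1 := by
  refine Model.forall_mem_of_getD (G23D.T5.srels0.map SRel.word) [] (fun r => ev (Model.gm Md_ok) r = 1) 67 (by rfl) ?_
  intro j hj
  interval_cases j
  · exact Model.ev_one_of_chk1 Md_ok _ vM5_0
  · exact Model.ev_one_of_chk1 Md_ok _ vM5_1
  · exact Model.ev_one_of_chk1 Md_ok _ vM5_2
  · exact Model.ev_one_of_chk1 Md_ok _ vM5_3
  · exact Model.ev_one_of_chk1 Md_ok _ vM5_4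
  · exact Model.ev_one_of_chk1 Md_ok _ vM5_5
  · exact Model.ev_one_of_chk1 Md_ok _ vM5_6
  · exact Model.ev_one_of_chk1 Md_ok _ vM5_7
  · exact Model.ev_one_of_chk1 Md_ok _ vM5_8
  · exact Model.ev_one_of_chk1 Md_ok _ vM5_9
  · exact Model.ev_one_of_chk1 Md_ok _ vM5_10
  · exact Model.ev_one_of_chk1 Md_ok _ vM5_11
  · exact Model.ev_one_of_chk1 Md_ok _ vM5_12
  · exact Model.ev_one_of_chk1 Md_ok _ vM5_13
  · exact Model.ev_one_of_chk1 Md_ok _ vM5_14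
  · exact Model.ev_one_of_chk1 Md_ok _ vM5_15
  · exact Model.ev_one_of_chk1 Md_ok _ vM5_16
  · exact Model.ev_one_of_chk1 Md_ok _ vM5_17
  · exact Model.ev_one_of_chk1 Md_ok _ vM5_18
  · exact Model.ev_one_of_chk1 Md_ok _ vM5_19
  · exact Model.ev_one_of_chk1 Md_ok _ vM5_20
  · exact Model.ev_one_of_chk1 Md_ok _ vM5_21
  · exact Model.ev_one_of_chk1 Md_ok _ vM5_22
  · exact Model.ev_one_of_chk1 Md_ok _ vM5_23
  · exact Model.ev_one_of_chk1 Md_ok _ vM5_24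
  · exact Model.ev_one_of_chk1 Md_ok _ vM5_25
  · exact Model.ev_one_of_chk1 Md_ok _ vM5_26
  · exact Model.ev_one_of_chk1 Md_ok _ vM5_27
  · exact Model.ev_one_of_chk1 Md_ok _ vM5_28
  · exact Model.ev_one_of_chk1 Md_ok _ vM5_29
  · exact Model.ev_one_of_chk1 Md_ok _ vM5_30
  · exact Model.ev_one_of_chk1 Md_ok _ vM5_31
  · exact Model.ev_one_of_chk1 Md_ok _ vM5_32
  · exact Model.ev_one_of_chk1 Md_ok _ vM5_33
  · exact Model.ev_one_of_chk1 Md_ok _ vM5_34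
  · exact Model.ev_one_of_chk1 Md_ok _ vM5_35
  · exact Model.ev_one_of_chk1 Md_ok _ vM5_36
  · exact Model.ev_one_of_chk1 Md_ok _ vM5_37
  · exact Model.ev_one_of_chk1 Md_ok _ vM5_38
  · exact Model.ev_one_of_chk1 Md_ok _ vM5_39
  · exact Model.ev_one_of_chk1 Md_ok _ vM5_40
  · exact Model.ev_one_of_chk1 Md_ok _ vM5_41
  · exact Model.ev_one_of_chk1 Md_ok _ vM5_42
  · exact Model.ev_one_of_chk1 Md_ok _ vM5_43
  · exact Model.ev_one_of_chk1 Md_ok _ vM5_44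
  · exact Model.ev_one_of_chk1 Md_ok _ vM5_45
  · exact Model.ev_one_of_chk1 Md_ok _ vM5_46
  · exact Model.ev_one_of_chk1 Md_ok _ vM5_47
  · exact Model.ev_one_of_chk1 Md_ok _ vM5_48
  · exact Model.ev_one_of_chk1 Md_ok _ vM5_49
  · exact Model.ev_one_of_chk1 Md_ok _ vM5_50
  · exact Model.ev_one_of_chk1 Md_ok _ vM5_51
  · exact Model.ev_one_of_chk1 Md_ok _ vM5_52
  · exact Model.ev_one_of_chk1 Md_ok _ vM5_53
  · exact Model.ev_one_of_chk1 Md_ok _ vM5_54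
  · exact Model.ev_one_of_chk1 Md_ok _ vM5_55
  · exact Model.ev_one_of_chk1 Md_ok _ vM5_56
  · exact Model.ev_one_of_chk1 Md_ok _ vM5_57
  · exact Model.ev_one_of_chk1 Md_ok _ vM5_58
  · exact Model.ev_one_of_chk1 Md_ok _ vM5_59
  · exact Model.ev_one_of_chk1 Md_ok _ vM5_60
  · exact Model.ev_one_of_chk1 Md_ok _ vM5_61
  · exact Model.ev_one_of_chk1 Md_ok _ vM5_62
  · exact Model.ev_one_of_chk1 Md_ok _ vM5_63
  · exact Model.ev_one_of_chk1 Md_ok _ vM5_64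
  · exact Model.ev_one_of_chk1 Md_ok _ vM5_65
  · exact Model.ev_one_of_chk1 Md_ok _ vM5_66

end Cfsg.Agent.Lib.Helper93.G23
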