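import Cfsg.Agent.Lib.Helper93.G23.ValidM1
import Cfsg.Agent.Lib.Helper93.G23.ValidM2
import Cfsg.Agent.Lib.Helper93.G23.ValidM3
import Cfsg.Agent.Lib.Helper93.G23.ValidM4
import Cfsg.Agent.Lib.Helper93.G23.ValidM5
import Cfsg.Agent.Lib.Helper93.G23.Words

/-! # The permutation model of `3.G₂(3)` on 1134 points: generators, relators, the central element -/

set_option autoImplicit false
set_option maxRecDepth 1000000
set_option maxHeartbeats 0
set_option Elab.async false

namespace Cfsg.Agent.Lib.Helper93.G23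

open Cfsg.Agent.Lib.Helper93.BigPerm Cfsg.Agent.Lib.Helper89.TableChain2
open Cfsg.Agent.Lib.Helper89.CosetCert Cfsg.Agent.Lib.Helper89.SafePres

/-- the generators of the model -/
noncomputable def gm (i : ℕ) : Equiv.Perm (Fin 1134) := Model.gm Md_ok i

theorem gm_eq_one (i : ℕ) (h : 14 ≤ i) : gm i = 1 := by
  unfold gm Model.gm Model.perm
  rw [dif_neg (by show ¬ 2 * i < 2 * 14; omega)]
  rfl

theorem Md_pow0 : Md.chk (powWord 2 0) 0 1134 = true := by decide +kernel

theorem Md_pow1 : Md.chk (powWord 2 1) 0 1134 = true := by decide +kernel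

theorem Md_pow2 : Md.chk (powWord 2 2) 0 1134 = true := by decide +kernel

theorem Md_pow3 : Md.chk (powWord 2 3) 0 1134 = true := by decide +kernel

theorem Md_pow4 : Md.chk (powWord 2 4) 0 1134 = true := by decide +kernel

theorem Md_pow5 : Md.chk (powWord 2 5) 0 1134 = true := by decide +kernel

theorem Md_pow6 : Md.chk (powWord 2 6) 0 1134 = true := by decide +kernel

theorem Md_pow7 : Md.chk (powWord 2 7) 0 1134 = true := by decide +kernel

theorem Md_pow8 : Md.chk (powWord 2 8) 0 1134 = true := by decide +kernel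

theorem Md_pow9 : Md.chk (powWord 2 9) 0 1134 = true := by decide +kernel

theorem Md_pow10 : Md.chk (powWord 2 10) 0 1134 = true := by decide +kernel

theorem Md_pow11 : Md.chk (powWord 2 11) 0 1134 = true := by decide +kernel

theorem Md_pow12 : Md.chk (powWord 2 12) 0 1134 = true := by decide +kernel

theorem Md_pow13 : Md.chk (powWord 2 13) 0 1134 = true := by decide +kernel

theorem gm_pow (i : ℕ) : gm i ^ 2 = 1 := by
  by_cases h : i < 14
  · interval_cases i
    · exact Model.gm_pow' Md_ok 0 2 Md_pow0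
    · exact Model.gm_pow' Md_ok 1 2 Md_pow1
    · exact Model.gm_pow' Md_ok 2 2 Md_pow2
    · exact Model.gm_pow' Md_ok 3 2 Md_pow3
    · exact Model.gm_pow' Md_ok 4 2 Md_pow4
    · exact Model.gm_pow' Md_ok 5 2 Md_pow5
    · exact Model.gm_pow' Md_ok 6 2 Md_pow6
    · exact Model.gm_pow' Md_ok 7 2 Md_pow7
    · exact Model.gm_pow' Md_ok 8 2 Md_pow8
    · exact Model.gm_pow' Md_ok 9 2 Md_pow9
    · exact Model.gm_pow' Md_ok 10 2 Md_pow10
    · exact Model.gm_pow' Md_ok 11 2 Md_pow11
    · exact Model.gm_pow' Md_ok 12 2 Md_pow12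
    · exact Model.gm_pow' Md_ok 13 2 Md_pow13
  · rw [gm_eq_one i (by omega), one_pow]

theorem hvalidM1 : ∀ r ∈ G23D.T1.srels, ev gm r.word = 1 :=
  fun r hr => validM1 _ (List.mem_map_of_mem (G23D.T1.mem_srels hr))

theorem hvalidM2 : ∀ r ∈ G23D.T2.srels, ev gm r.word = 1 :=
  fun r hr => validM2 _ (List.mem_map_of_mem (G23D.T2.mem_srels hr))

theorem hvalidM3 : ∀ r ∈ G23D.T3.srels, ev gm r.word = 1 :=
  fun r hr => validM3 _ (List.mem_map_of_mem (G23D.T3.mem_srels hr))

theorem hvalidM4 : ∀ r ∈ G23D.T4.srels, ev gm r.word = 1 :=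
  fun r hr => validM4 _ (List.mem_map_of_mem (G23D.T4.mem_srels hr))

theorem hvalidM5 : ∀ r ∈ G23D.T5.srels, ev gm r.word = 1 :=
  fun r hr => validM5 _ (List.mem_map_of_mem (G23D.T5.mem_srels hr))

theorem Md_xrel : Md.chk xrel 0 1134 = true := by decide +kernel

theorem gm_xrel : ev gm xrel = 1 := Model.ev_one_of_chk1 Md_ok _ Md_xrel

/-- the relator expressing that the word `w` commutes with the generator `i` -/
def centRelW (w : Word) (i : ℕ) : Word := 2 * i :: (w ++ (2 * i + 1) :: winv w)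

theorem comm_of_relW {L : Type*} [Group L] (t : ℕ → L) (w : Word) (i : ℕ)
    (hv : ev t (centRelW w i) = 1) : t i * ev t w = ev t w * t i := by
  unfold centRelW at hv
  rw [ev_cons, ev_append, ev_cons, ev_winv, lv_two_mul, lv_two_mul_add_one] at hv
  have h2 : t i * ev t w = (t i * (ev t w * ((t i)⁻¹ * (ev t w)⁻¹))) * (ev t w * t i) := by
    group
  rw [h2, hv, one_mul]

theorem Md_cent_0 : Md.chk (centRelW wz 0) 0 1134 = true := by decide +kernel

theorem Md_cent_1 : Md.chk (centRelW wz 1) 0 1134 = true := by decide +kernel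

theorem Md_cent_2 : Md.chk (centRelW wz 2) 0 1134 = true := by decide +kernel

theorem Md_cent_3 : Md.chk (centRelW wz 3) 0 1134 = true := by decide +kernel

theorem Md_cent_4 : Md.chk (centRelW wz 4) 0 1134 = true := by decide +kernel

theorem Md_cent_5 : Md.chk (centRelW wz 5) 0 1134 = true := by decide +kernel

theorem Md_cent_6 : Md.chk (centRelW wz 6) 0 1134 = true := by decide +kernel

theorem Md_cent_7 : Md.chk (centRelW wz 7) 0 1134 = true := by decide +kernel

theorem Md_cent_8 : Md.chk (centRelW wz 8) 0 1134 = true := by decide +kernel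

theorem Md_cent_9 : Md.chk (centRelW wz 9) 0 1134 = true := by decide +kernel

theorem Md_cent_10 : Md.chk (centRelW wz 10) 0 1134 = true := by decide +kernel

theorem Md_cent_11 : Md.chk (centRelW wz 11) 0 1134 = true := by decide +kernel

theorem Md_cent_12 : Md.chk (centRelW wz 12) 0 1134 = true := by decide +kernel

theorem Md_cent_13 : Md.chk (centRelW wz 13) 0 1134 = true := by decide +kernel

theorem z_comm (i : ℕ) (h : i < 14) : gm i * ev gm wz = ev gm wz * gm i := by
  apply comm_of_relW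
  interval_cases i
  · exact Model.ev_one_of_chk1 Md_ok _ Md_cent_0
  · exact Model.ev_one_of_chk1 Md_ok _ Md_cent_1
  · exact Model.ev_one_of_chk1 Md_ok _ Md_cent_2
  · exact Model.ev_one_of_chk1 Md_ok _ Md_cent_3
  · exact Model.ev_one_of_chk1 Md_ok _ Md_cent_4
  · exact Model.ev_one_of_chk1 Md_ok _ Md_cent_5
  · exact Model.ev_one_of_chk1 Md_ok _ Md_cent_6
  · exact Model.ev_one_of_chk1 Md_ok _ Md_cent_7
  · exact Model.ev_one_of_chk1 Md_ok _ Md_cent_8
  · exact Model.ev_one_of_chk1 Md_ok _ Md_cent_9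
  · exact Model.ev_one_of_chk1 Md_ok _ Md_cent_10
  · exact Model.ev_one_of_chk1 Md_ok _ Md_cent_11
  · exact Model.ev_one_of_chk1 Md_ok _ Md_cent_12
  · exact Model.ev_one_of_chk1 Md_ok _ Md_cent_13

theorem Md_pow_wz : Md.chk (wrep 3 wz) 0 1134 = true := by decide +kernel

theorem z_pow : ev gm wz ^ 3 = 1 := by
  have := Model.ev_one_of_chk1 Md_ok (wrep 3 wz) Md_pow_wz
  rwa [ev_wrep] at this

theorem z_ne : ev gm wz ≠ 1 :=
  Model.ev_ne_one Md_ok wz (by decide) 0 (by decide) (by decide +kernel)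

end Cfsg.Agent.Lib.Helper93.G23
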