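import Cfsg.Agent.Lib.Helper93.G23.Words
import Cfsg.Agent.Lib.Helper93.G23D.T0Cert
import Cfsg.Agent.Lib.Helper93.G23D.T1Cert
import Cfsg.Agent.Lib.Helper93.G23D.T2Cert
import Cfsg.Agent.Lib.Helper93.G23D.T3Cert
import Cfsg.Agent.Lib.Helper93.G23D.T4Cert
import Cfsg.Agent.Lib.Helper93.G23D.T5Cert

/-! # `G₂(3)`: the presentation on fourteen involutions bounds a group by `3 · |G₂(3)|` (helper93)

Chain `2 · 2 · 9 · 156 · 2 · 1134` of coset enumerations; besides the power and conjugation relators the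
relator `(x₁ x₂ x₃) ^ 81` is used. -/

set_option autoImplicit false
set_option maxRecDepth 100000

namespace Cfsg.Agent.Lib.Helper93.G23

open Cfsg.Agent.Lib.Helper89
open Cfsg.Agent.Lib.Helper89.CosetCert Cfsg.Agent.Lib.Helper89.SafePres

/-- all conjugation relators between the involutions -/
def srelsD : List SRel :=
  G23D.T1.srels ++ G23D.T2.srels ++ G23D.T3.srels ++ G23D.T4.srels ++ G23D.T5.srels

theorem mem_srelsD {r : SRel} (hr : r ∈ srelsD) :
    r ∈ G23D.T1.srels ∨ r ∈ G23D.T2.srels ∨ r ∈ G23D.T3.srels ∨ r ∈ G23D.T4.srels ∨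
      r ∈ G23D.T5.srels := by
  unfold srelsD at hr
  rw [List.mem_append, List.mem_append, List.mem_append, List.mem_append] at hr
  tauto

theorem pwD0 : ∀ q ∈ G23D.T0.pw, q.1 = 2 := by decide
theorem pwD1 : ∀ q ∈ G23D.T1.pw, q.1 = 2 := by decide
theorem pwD2 : ∀ q ∈ G23D.T2.pw, q.1 = 2 := by decide
theorem pwD3 : ∀ q ∈ G23D.T3.pw, q.1 = 2 := by decide
theorem pwD4 : ∀ q ∈ G23D.T4.pw, q.1 = 2 := by decide
theorem pwD5 : ∀ q ∈ G23D.T5.pw, q.1 = 2 := by decide

theorem arelsD_eq : G23D.T1.arels = [wrep 81 xrel] := by decide +kernel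

theorem closure_lt_zeroD {L : Type*} [Group L] (t : ℕ → L) :
    Nat.card (Subgroup.closure {y | ∃ i < 0, y = t i}) ≤ 1 := by
  have : {y | ∃ i < 0, y = t i} = (∅ : Set L) := by
    ext y
    simp
  rw [this, Subgroup.closure_empty, Subgroup.card_bot]

/-- the chain of coset enumerations bounds the order of any group satisfying the relators -/
theorem hboundD (L : Type) [Group L] [Finite L] (t : ℕ → L) (ht : ∀ i, t i ^ 2 = 1)
    (hs : ∀ r ∈ srelsD, ev t r.word = 1) (hx : ev t xrel ^ 81 = 1) :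
    Nat.card (Subgroup.closure {y | ∃ i < 14, y = t i}) ≤ 12737088 := by
  have hs1 : ∀ r ∈ G23D.T1.srels, ev t r.word = 1 := fun r hr =>
    hs r (by unfold srelsD; simp [hr])
  have hs2 : ∀ r ∈ G23D.T2.srels, ev t r.word = 1 := fun r hr =>
    hs r (by unfold srelsD; simp [hr])
  have hs3 : ∀ r ∈ G23D.T3.srels, ev t r.word = 1 := fun r hr =>
    hs r (by unfold srelsD; simp [hr])
  have hs4 : ∀ r ∈ G23D.T4.srels, ev t r.word = 1 := fun r hr =>
    hs r (by unfold srelsD; simp [hr])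
  have hs5 : ∀ r ∈ G23D.T5.srels, ev t r.word = 1 := fun r hr =>
    hs r (by unfold srelsD; simp [hr])
  have hr0 : ∀ r ∈ G23D.T0.cert.rels, ev t r = 1 := by
    show ∀ r ∈ G23D.T0.rels, ev t r = 1
    rw [G23D.T0.rels_eq]
    exact rels_valid t _ _ (fun q hq => by rw [pwD0 q hq]; exact ht _)
      (fun r hr => absurd hr (List.not_mem_nil))
  have hr1 : ∀ r ∈ G23D.T1.cert.rels, ev t r = 1 := by
    show ∀ r ∈ G23D.T1.rels, ev t r = 1
    rw [G23D.T1.rels_eq]
    intro r hr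
    rw [List.mem_append] at hr
    rcases hr with hr | hr
    · exact rels_valid t _ _ (fun q hq => by rw [pwD1 q hq]; exact ht _) hs1 r hr
    · rw [arelsD_eq, List.mem_singleton] at hr
      rw [hr, ev_wrep]
      exact hx
  have hr2 : ∀ r ∈ G23D.T2.cert.rels, ev t r = 1 := by
    show ∀ r ∈ G23D.T2.rels, ev t r = 1
    rw [G23D.T2.rels_eq]
    exact rels_valid t _ _ (fun q hq => by rw [pwD2 q hq]; exact ht _) hs2
  have hr3 : ∀ r ∈ G23D.T3.cert.rels, ev t r = 1 := by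
    show ∀ r ∈ G23D.T3.rels, ev t r = 1
    rw [G23D.T3.rels_eq]
    exact rels_valid t _ _ (fun q hq => by rw [pwD3 q hq]; exact ht _) hs3
  have hr4 : ∀ r ∈ G23D.T4.cert.rels, ev t r = 1 := by
    show ∀ r ∈ G23D.T4.rels, ev t r = 1
    rw [G23D.T4.rels_eq]
    exact rels_valid t _ _ (fun q hq => by rw [pwD4 q hq]; exact ht _) hs4
  have hr5 : ∀ r ∈ G23D.T5.cert.rels, ev t r = 1 := by
    show ∀ r ∈ G23D.T5.rels, ev t r = 1
    rw [G23D.T5.rels_eq]
    exact rels_valid t _ _ (fun q hq => by rw [pwD5 q hq]; exact ht _) hs5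
  have c0 := cert_step t G23D.T0.cert G23D.T0.cert_ok hr0 1 (closure_lt_zeroD t)
  have c1 := cert_step t G23D.T1.cert G23D.T1.cert_ok hr1 _ c0
  have c2 := cert_step t G23D.T2.cert G23D.T2.cert_ok hr2 _ c1
  have c3 := cert_step t G23D.T3.cert G23D.T3.cert_ok hr3 _ c2
  have c4 := cert_step t G23D.T4.cert G23D.T4.cert_ok hr4 _ c3
  have c5 := cert_step t G23D.T5.cert G23D.T5.cert_ok hr5 _ c4
  exact c5

end Cfsg.Agent.Lib.Helper93.G23
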