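import Cfsg.Agent.Lib.Helper93.G23.PartA
import Cfsg.Agent.Lib.Helper93.G23.PartD
import Cfsg.Agent.Lib.Helper93.G23.GD
import Cfsg.Agent.Lib.Helper93.G23.Model
import Cfsg.Agent.Lib.Helper93.G23.Crit
import Cfsg.Agent.Lib.Helper58.G2Chain
import Cfsg.Agent.Lib.Helper58.G2Transfer
import Cfsg.Agent.Lib.Helper89.MultTransfer

/-! # The Schur multiplier of `G₂(3)` is cyclic of order three (helper93)

The explicit cover is the subgroup of `Sym(1134) × G₂(3)` generated by the lifts of fourteen involutions. -/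

set_option autoImplicit false
set_option maxRecDepth 100000

namespace Cfsg.Agent.Lib.Helper93.G23

open Cfsg Cfsg.Agent.Lib.Helper89
open Cfsg.Agent.Lib.Helper89.CosetCert Cfsg.Agent.Lib.Helper89.SafePres
open Cfsg.Agent.Lib.Helper89.StemSafe Cfsg.Agent.Lib.Helper89.SafePres2
open Cfsg.Agent.Lib.Helper93.StemCyc
open Cfsg.Agent.Lib.Helper58.G2Main
open Cfsg.Agent.Lib.Helper58
open scoped commutatorElement

theorem hvalidD : ∀ r ∈ srelsD, ev gD r.word = 1 := by
  intro r hr
  rcases mem_srelsD hr with hr | hr | hr | hr | hr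
  · exact validD1 r hr
  · exact validD2 r hr
  · exact validD3 r hr
  · exact validD4 r hr
  · exact validD5 r hr

theorem hvalidMd : ∀ r ∈ srelsD, ev gm r.word = 1 := by
  intro r hr
  rcases mem_srelsD hr with hr | hr | hr | hr | hr
  · exact hvalidM1 r hr
  · exact hvalidM2 r hr
  · exact hvalidM3 r hr
  · exact hvalidM4 r hr
  · exact hvalidM5 r hr

/-! ### the explicit cover -/

/-- the ambient group of the cover -/
abbrev LL : Type := Equiv.Perm (Fin 1134) × ↥Gs

/-- the generators of the cover -/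
noncomputable def tt (i : ℕ) : LL := (gm i, gD i)

theorem ev_tt (w : Word) : ev tt w = (ev gm w, ev gD w) := by
  have h1 : tt = fun i => (gm i, gD i) := rfl
  rw [h1, ev_prod]

theorem tt_pow (i : ℕ) : tt i ^ 2 = 1 := by
  apply Prod.ext
  · rw [Prod.pow_fst]
    exact gm_pow i
  · rw [Prod.pow_snd]
    exact gD_pow i

theorem hs_tt : ∀ r ∈ srelsD, ev tt r.word = 1 := by
  intro r hr
  rw [ev_tt, hvalidMd r hr, hvalidD r hr]
  rfl

theorem hx_tt : ev tt xrel = 1 := by
  rw [ev_tt, gm_xrel, ev_xrel]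
  rfl

/-- the cover of `G₂(3)` -/
def Gam : Subgroup LL := Subgroup.closure {y | ∃ i < 14, y = tt i}

theorem card_Gam_le : Nat.card Gam ≤ 12737088 :=
  hboundD LL tt tt_pow hs_tt (by rw [hx_tt, one_pow])

/-- the covering map -/
noncomputable def sig : ↥Gam →* ↥Gs := (MonoidHom.snd (Equiv.Perm (Fin 1134)) ↥Gs).comp Gam.subtype

theorem sig_surj : Function.Surjective sig := by
  intro y
  have hm : Gam.map (MonoidHom.snd (Equiv.Perm (Fin 1134)) ↥Gs) = ⊤ := by
    unfold Gam
    rw [map_closure_eq (MonoidHom.snd (Equiv.Perm (Fin 1134)) ↥Gs) 14 tt gD (fun i => rfl), closure_gD]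
  have : y ∈ Gam.map (MonoidHom.snd (Equiv.Perm (Fin 1134)) ↥Gs) := by rw [hm]; trivial
  obtain ⟨x, hx, rfl⟩ := this
  exact ⟨⟨x, hx⟩, rfl⟩

theorem card_Gam : Nat.card Gam = Nat.card sig.ker * 4245696 := by
  have h1 := Subgroup.card_mul_index sig.ker
  rw [Subgroup.index_ker, MonoidHom.range_eq_top.2 sig_surj, Subgroup.card_top, card_Gs] at h1
  exact h1.symm

theorem gD_eq_one (i : ℕ) (h : ¬ i < 14) : gD i = 1 := by
  apply Subtype.ext
  show gD0 i = 1
  unfold gD0
  rw [if_neg h]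

theorem tt_one (i : ℕ) (h : ¬ i < 14) : tt i = 1 := by
  unfold tt
  rw [gm_eq_one i (by omega), gD_eq_one i h]
  rfl

theorem tt_mem (i : ℕ) : tt i ∈ Gam := by
  by_cases h : i < 14
  · exact Subgroup.subset_closure ⟨i, h, rfl⟩
  · rw [tt_one i h]
    exact Gam.one_mem

/-- the generators as elements of the cover -/
noncomputable def tt' (i : ℕ) : ↥Gam := ⟨tt i, tt_mem i⟩

theorem ev_tt' (w : Word) : ((ev tt' w : ↥Gam) : LL) = ev tt w := by
  have := ev_map_hom Gam.subtype tt' w
  exact this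

theorem tt'_pow (i : ℕ) : tt' i ^ 2 = 1 := by
  apply Subtype.ext
  rw [Subgroup.coe_pow]
  exact tt_pow i

theorem hs_tt' : ∀ r ∈ srelsD, ev tt' r.word = 1 := by
  intro r hr
  apply Subtype.ext
  rw [ev_tt', hs_tt r hr]
  rfl

theorem hx_tt' : ev tt' xrel = 1 := by
  apply Subtype.ext
  rw [ev_tt', hx_tt]
  rfl

theorem sig_tt' (i : ℕ) : sig (tt' i) = gD i := rfl

theorem closure_tt' : Subgroup.closure {y | ∃ i < 14, y = tt' i} = ⊤ := by
  rw [eq_top_iff]
  rintro ⟨x, hx⟩ -
  have key : ∀ y ∈ Gam, ∀ hy : y ∈ Gam,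
      (⟨y, hy⟩ : ↥Gam) ∈ Subgroup.closure {y | ∃ i < 14, y = tt' i} := by
    intro y hy
    unfold Gam at hy
    induction hy using Subgroup.closure_induction with
    | mem y hy =>
      intro hy'
      obtain ⟨i, hi, rfl⟩ := hy
      exact Subgroup.subset_closure ⟨i, hi, rfl⟩
    | one =>
      intro _
      exact Subgroup.one_mem _
    | mul a b ha hb iha ihb =>
      intro _
      have ha' : a ∈ Gam := ha
      have hb' : b ∈ Gam := hb
      exact Subgroup.mul_mem _ (iha ha') (ihb hb')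
    | inv a ha iha =>
      intro _
      have ha' : a ∈ Gam := ha
      exact Subgroup.inv_mem _ (iha ha')
  exact key x hx hx

/-! ### the central element of order three -/

/-- the central element -/
noncomputable def zc : ↥Gam := ev tt' wz

theorem zc_coe : (zc : LL) = (ev gm wz, 1) := by
  unfold zc
  rw [ev_tt', ev_tt, ev_wz]

theorem zc_ker : zc ∈ sig.ker := by
  rw [MonoidHom.mem_ker]
  show ((zc : LL)).2 = 1
  rw [zc_coe]

theorem zc_pow_coe (n : ℕ) : ((zc ^ n : ↥Gam) : LL) = (ev gm wz ^ n, 1) := by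
  rw [Subgroup.coe_pow, zc_coe]
  apply Prod.ext
  · rw [Prod.pow_fst]
  · rw [Prod.pow_snd, one_pow]

theorem zc_pow3 : zc ^ 3 = 1 := by
  apply Subtype.ext
  rw [zc_pow_coe, z_pow]
  rfl

theorem zc_ne : zc ≠ 1 := by
  intro h
  have h1 : ((zc : ↥Gam) : LL) = 1 := by rw [h]; rfl
  rw [zc_coe] at h1
  exact z_ne (congrArg Prod.fst h1)

theorem orderOf_zc : orderOf zc = 3 := by
  have : Fact (Nat.Prime 3) := ⟨Nat.prime_three⟩
  exact orderOf_eq_prime zc_pow3 zc_ne

theorem zc_center : zc ∈ Subgroup.center ↥Gam := by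
  rw [Subgroup.mem_center_iff]
  intro y
  apply Subtype.ext
  rw [Subgroup.coe_mul, Subgroup.coe_mul]
  have hcent : Gam ≤ Subgroup.centralizer {(zc : LL)} := by
    unfold Gam
    rw [Subgroup.closure_le]
    rintro x ⟨i, hi, rfl⟩
    rw [SetLike.mem_coe, Subgroup.mem_centralizer_iff]
    intro h hh
    rw [Set.mem_singleton_iff] at hh
    rw [hh, zc_coe]
    unfold tt
    apply Prod.ext
    · exact (z_comm i hi).symm
    · show (1 : ↥Gs) * gD i = gD i * 1
      rw [one_mul, mul_one]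
  have := hcent y.2
  rw [Subgroup.mem_centralizer_iff] at this
  exact (this _ rfl).symm

/-- for involutions `a`, `b`, `c` the element `(a b c)²` is a product of two commutators -/
theorem invol_word_mem_commutator {L : Type*} [Group L] (a b c : L) (ha : a * a = 1) (hb : b * b = 1)
    (hc : c * c = 1) : a * (b * (c * (a * (b * (c * 1))))) ∈ commutator L := by
  have ha' : a⁻¹ = a := inv_eq_of_mul_eq_one_right ha
  have hb' : b⁻¹ = b := inv_eq_of_mul_eq_one_right hb
  have hc' : c⁻¹ = c := inv_eq_of_mul_eq_one_right hc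
  have hb2 : ∀ x : L, b * (b * x) = x := fun x => by rw [← mul_assoc, hb, one_mul]
  have hc2 : ∀ x : L, c * (c * x) = x := fun x => by rw [← mul_assoc, hc, one_mul]
  have h : a * (b * (c * (a * (b * (c * 1))))) = ⁅a, b * c⁆ * ⁅b, c⁆ := by
    rw [commutatorElement_def, commutatorElement_def, mul_inv_rev, ha', hb', hc']
    simp only [mul_assoc, hb2, hc2, mul_one]
  rw [h, commutator_def]
  exact Subgroup.mul_mem _
    (Subgroup.commutator_mem_commutator (Subgroup.mem_top _) (Subgroup.mem_top _))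
    (Subgroup.commutator_mem_commutator (Subgroup.mem_top _) (Subgroup.mem_top _))

theorem sq_one' (i : ℕ) : tt' i * tt' i = 1 := by
  rw [← pow_two]
  exact tt'_pow i

theorem zc_comm : zc ∈ commutator ↥Gam := by
  have h : zc = tt' 0 * (tt' 3 * (tt' 12 * (tt' 0 * (tt' 3 * (tt' 12 * 1))))) := by
    unfold zc
    show ev tt' [2 * 0, 2 * 3, 2 * 12, 2 * 0, 2 * 3, 2 * 12] = _
    simp only [ev_cons, ev_nil, lv_two_mul]
  rw [h]
  exact invol_word_mem_commutator _ _ _ (sq_one' 0) (sq_one' 3) (sq_one' 12)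

theorem card_ker_ge : 3 ≤ Nat.card sig.ker := by
  have h1 : orderOf (⟨zc, zc_ker⟩ : sig.ker) = 3 :=
    (Subgroup.orderOf_mk zc zc_ker).trans orderOf_zc
  have h2 := orderOf_dvd_natCard (⟨zc, zc_ker⟩ : sig.ker)
  rw [h1] at h2
  exact Nat.le_of_dvd Nat.card_pos h2

theorem card_ker_le : Nat.card sig.ker ≤ 3 := by
  have h1 := card_Gam_le
  rw [card_Gam] at h1
  have e : (12737088 : ℕ) = 3 * 4245696 := by norm_num
  rw [e] at h1
  exact Nat.le_of_mul_le_mul_right h1 (by norm_num)

theorem card_Gam_eq : Nat.card Gam = 12737088 := by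
  rw [card_Gam, le_antisymm card_ker_le card_ker_ge]

theorem stem : Cfsg.IsStemExtension sig ∧ Nonempty (sig.ker ≃* Multiplicative (ZMod 3)) :=
  stem_of_central_elt sig sig_surj zc zc_ker zc_center zc_comm 3 orderOf_zc card_ker_le

theorem part1 : ∃ (Γ : Type) (_ : Group Γ) (_ : Finite Γ) (σ : Γ →* ↥Gs),
    Cfsg.IsStemExtension σ ∧ Nonempty (σ.ker ≃* Multiplicative (ZMod 3)) :=
  ⟨↥Gam, inferInstance, inferInstance, sig, stem.1, stem.2⟩

/-! ### every stem extension is a quotient -/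

theorem part2 (Γ : Type) [Group Γ] [Finite Γ] (σ : Γ →* ↥Gs)
    (hσ : Cfsg.IsStemExtension σ) :
    ∃ π : Multiplicative (ZMod 3) →* σ.ker, Function.Surjective π := by
  obtain ⟨π, hπ⟩ := exists_surj_ker_x 81 (by norm_num) 14 gD (fun _ => 2) gD_pow
    (fun _ => by decide) closure_gD srelsD hvalidD [xrel]
    (fun r hr => by rw [List.mem_singleton.1 hr]; exact ev_xrel)
    sig tt' sig_tt' tt'_pow hs_tt'
    (fun r hr => by rw [List.mem_singleton.1 hr, hx_tt', one_pow])
    closure_tt'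
    (fun L _ _ t ht hs hx => by
      rw [card_Gam_eq]
      exact hboundD L t ht hs (hx xrel (List.mem_singleton.2 rfl)))
    σ hσ (hexp Γ σ hσ)
  obtain ⟨e⟩ := stem.2
  exact ⟨π.comp e.symm.toMonoidHom, hπ.comp e.symm.surjective⟩

theorem multiplier_Gs : Cfsg.HasCyclicSchurMultiplier ↥Gs 3 :=
  ⟨part1, fun Γ _ _ σ hσ => part2 Γ σ hσ⟩

/-- transfer to the group over the prime field, as the group of the data -/
noncomputable def toGs {F : Type*} [Field F] [Fintype F] (hF : Fintype.card F = 3) :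
    ↥(Cfsg.Lie.chevG2.group F) ≃* ↥Gs :=
  (G2Transfer.groupEquiv Cfsg.Lie.chevG2 (ZMod.ringEquivOfPrime F Nat.prime_three hF).symm).trans
    (MulEquiv.subgroupCongr G2Chain.group_eq)

theorem multiplier_G2 {F : Type*} [Field F] [Fintype F] (hF : Fintype.card F = 3) :
    Cfsg.HasCyclicSchurMultiplier ↥(Cfsg.Lie.chevG2.group F) 3 :=
  MultTransfer.hasSchurMultiplier_of_mulEquiv (toGs hF) multiplier_Gs

end Cfsg.Agent.Lib.Helper93.G23
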