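import Cfsg.Agent.Lib.Helper93.G23.Base
import Cfsg.Agent.Lib.Helper93.G23A.T1Rels
import Cfsg.Agent.Lib.Helper93.G23A.T2Rels
import Cfsg.Agent.Lib.Helper93.G23A.T3Rels

/-! # `G₂(3)`: the four basic root elements (order three) as generators, for the prime `2` -/

set_option autoImplicit false
set_option maxRecDepth 1000000
set_option maxHeartbeats 0

namespace Cfsg.Agent.Lib.Helper93.G23

open Cfsg.Agent.Lib.Helper89 Cfsg.Agent.Lib.Helper89.TableChain2
open Cfsg.Agent.Lib.Helper89.CosetCert Cfsg.Agent.Lib.Helper89.SafePres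
open Cfsg.Agent.Lib.Helper58.G2Vec Cfsg.Agent.Lib.Helper58.G2Data Cfsg.Agent.Lib.Helper58.G2Gen
open Cfsg.Agent.Lib.Helper58.G2Act Cfsg.Agent.Lib.Helper58.G2Main

/-- letter words of the root element generators -/
def LWA : List (List ℕ) := [[0], [0, 0], [1], [1, 1], [2], [2, 2], [3], [3, 3]]

/-- the generators in the ambient general linear group -/
def gA0 (i : ℕ) : GG := if i < 4 then D0.gen i else 1

theorem lvA : ∀ l < 2 * 4, lv gA0 l = D0.ev (LWA.getD l []) := by
  intro l hl
  rcases Nat.even_or_odd' l with ⟨i, rfl | rfl⟩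
  · have hi : i < 4 := by omega
    rw [lv_two_mul]
    interval_cases i <;> simp [gA0, LWA, Data.ev]
  · have hi : i < 4 := by omega
    rw [lv_two_mul_add_one]
    interval_cases i
    · rw [show gA0 0 = D0.gen 0 from by simp [gA0], gen_inv 0 (by norm_num)]; rfl
    · rw [show gA0 1 = D0.gen 1 from by simp [gA0], gen_inv 1 (by norm_num)]; rfl
    · rw [show gA0 2 = D0.gen 2 from by simp [gA0], gen_inv 2 (by norm_num)]; rfl
    · rw [show gA0 3 = D0.gen 3 from by simp [gA0], gen_inv 3 (by norm_num)]; rfl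

theorem gA0_mem (i : ℕ) : gA0 i ∈ Gs := by
  unfold gA0
  split_ifs with h
  · exact D0.gen_mem i h
  · exact Gs.one_mem

/-- the generators -/
def gA (i : ℕ) : ↥Gs := ⟨gA0 i, gA0_mem i⟩

theorem coe_ev_gA (w : Word) : ((ev gA w : ↥Gs) : GG) = ev gA0 w :=
  ev_map_hom Gs.subtype gA w

theorem closure_gA0 : Subgroup.closure {y | ∃ i < 4, y = gA0 i} = Gs := by
  show _ = Subgroup.closure (D0.S 4)
  congr 1
  ext y
  constructor
  · rintro ⟨i, hi, rfl⟩
    exact ⟨i, hi, by simp [gA0, hi]⟩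
  · rintro ⟨i, hi, rfl⟩
    exact ⟨i, hi, by simp [gA0, hi]⟩

theorem closure_gA : Subgroup.closure {y | ∃ i < 4, y = gA i} = ⊤ := by
  have h := map_closure_eq Gs.subtype 4 gA gA0 (fun _ => rfl)
  rw [closure_gA0] at h
  apply Subgroup.map_injective Gs.subtype_injective
  rw [h, ← MonoidHom.range_eq_map, Subgroup.range_subtype]

theorem gA_pow (i : ℕ) : gA i ^ 3 = 1 := by
  apply Subtype.ext
  rw [Subgroup.coe_pow]
  show gA0 i ^ 3 = 1
  unfold gA0
  split_ifs with h
  · rw [pow_succ, pow_two]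
    exact gen_cube i h
  · exact one_pow 3

theorem validA1_ok : relsOK LWA 4 (G23A.T1.srels0.map SRel.word) = true := by decide +kernel

theorem validA1 : ∀ r ∈ G23A.T1.srels, ev gA r.word = 1 := by
  intro r hr
  apply Subtype.ext
  rw [coe_ev_gA]
  exact relsOK_valid LWA gA0 4 lvA _ validA1_ok _ (List.mem_map_of_mem (G23A.T1.mem_srels hr))

theorem validA2_ok : relsOK LWA 4 (G23A.T2.srels0.map SRel.word) = true := by decide +kernel

theorem validA2 : ∀ r ∈ G23A.T2.srels, ev gA r.word = 1 := by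
  intro r hr
  apply Subtype.ext
  rw [coe_ev_gA]
  exact relsOK_valid LWA gA0 4 lvA _ validA2_ok _ (List.mem_map_of_mem (G23A.T2.mem_srels hr))

theorem validA3_ok : relsOK LWA 4 (G23A.T3.srels0.map SRel.word) = true := by decide +kernel

theorem validA3 : ∀ r ∈ G23A.T3.srels, ev gA r.word = 1 := by
  intro r hr
  apply Subtype.ext
  rw [coe_ev_gA]
  exact relsOK_valid LWA gA0 4 lvA _ validA3_ok _ (List.mem_map_of_mem (G23A.T3.mem_srels hr))

end Cfsg.Agent.Lib.Helper93.G23
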