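import Cfsg.Agent.Lib.Helper93.G23.GA
import Cfsg.Agent.Lib.Helper93.G23A.T0Cert
import Cfsg.Agent.Lib.Helper93.G23A.T1Cert
import Cfsg.Agent.Lib.Helper93.G23A.T2Cert
import Cfsg.Agent.Lib.Helper93.G23A.T3Cert
import Cfsg.Agent.Lib.Helper58.EvTools
import Cfsg.Agent.Lib.Helper89.StemSafe

/-! # `G₂(3)`: kernels of stem extensions have exponent dividing `81` (helper93)

The four basic root elements (of order three) satisfy power and conjugation relators which present the group
(chain `3 · 8 · 243 · 728` of coset enumerations): no stem extension has an element of order two in its kernel.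
The primes `7` and `13` have cyclic Sylow subgroups, and an element of order nine bounds the `3`-part. -/

set_option autoImplicit false
set_option maxRecDepth 100000

namespace Cfsg.Agent.Lib.Helper93.G23

open Cfsg Cfsg.Agent.Lib.Helper89 Cfsg.Agent.Lib.Helper89.TableChain2
open Cfsg.Agent.Lib.Helper89.CosetCert Cfsg.Agent.Lib.Helper89.SafePres
open Cfsg.Agent.Lib.Helper89.StemSafe
open Cfsg.Agent.Lib.Helper58.G2Vec Cfsg.Agent.Lib.Helper58.G2Data Cfsg.Agent.Lib.Helper58.G2Gen
open Cfsg.Agent.Lib.Helper58.G2Act Cfsg.Agent.Lib.Helper58.G2Main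
open Cfsg.Agent.Lib.Helper58

/-- all conjugation relators between the root elements -/
def srelsA : List SRel := G23A.T1.srels ++ G23A.T2.srels ++ G23A.T3.srels

theorem hvalidA : ∀ r ∈ srelsA, ev gA r.word = 1 := by
  intro r hr
  unfold srelsA at hr
  rw [List.mem_append, List.mem_append] at hr
  rcases hr with (hr | hr) | hr
  · exact validA1 r hr
  · exact validA2 r hr
  · exact validA3 r hr

theorem pwA0 : ∀ q ∈ G23A.T0.pw, q.1 = 3 := by decide
theorem pwA1 : ∀ q ∈ G23A.T1.pw, q.1 = 3 := by decide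
theorem pwA2 : ∀ q ∈ G23A.T2.pw, q.1 = 3 := by decide
theorem pwA3 : ∀ q ∈ G23A.T3.pw, q.1 = 3 := by decide

theorem closure_lt_zero {L : Type*} [Group L] (t : ℕ → L) :
    Nat.card (Subgroup.closure {y | ∃ i < 0, y = t i}) ≤ 1 := by
  have : {y | ∃ i < 0, y = t i} = (∅ : Set L) := by
    ext y
    simp
  rw [this, Subgroup.closure_empty, Subgroup.card_bot]

/-- the chain of coset enumerations bounds the order of any group satisfying the relators -/
theorem hboundA (L : Type) [Group L] [Finite L] (t : ℕ → L) (ht : ∀ i, t i ^ 3 = 1)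
    (hs : ∀ r ∈ srelsA, ev t r.word = 1) :
    Nat.card (Subgroup.closure {y | ∃ i < 4, y = t i}) ≤ 4245696 := by
  have hs1 : ∀ r ∈ G23A.T1.srels, ev t r.word = 1 := fun r hr =>
    hs r (List.mem_append_left _ (List.mem_append_left _ hr))
  have hs2 : ∀ r ∈ G23A.T2.srels, ev t r.word = 1 := fun r hr =>
    hs r (List.mem_append_left _ (List.mem_append_right _ hr))
  have hs3 : ∀ r ∈ G23A.T3.srels, ev t r.word = 1 := fun r hr =>
    hs r (List.mem_append_right _ hr)
  have hr0 : ∀ r ∈ G23A.T0.cert.rels, ev t r = 1 := by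
    show ∀ r ∈ G23A.T0.rels, ev t r = 1
    rw [G23A.T0.rels_eq]
    exact rels_valid t _ _ (fun q hq => by rw [pwA0 q hq]; exact ht _)
      (fun r hr => absurd hr (List.not_mem_nil))
  have hr1 : ∀ r ∈ G23A.T1.cert.rels, ev t r = 1 := by
    show ∀ r ∈ G23A.T1.rels, ev t r = 1
    rw [G23A.T1.rels_eq]
    exact rels_valid t _ _ (fun q hq => by rw [pwA1 q hq]; exact ht _) hs1
  have hr2 : ∀ r ∈ G23A.T2.cert.rels, ev t r = 1 := by
    show ∀ r ∈ G23A.T2.rels, ev t r = 1
    rw [G23A.T2.rels_eq]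
    exact rels_valid t _ _ (fun q hq => by rw [pwA2 q hq]; exact ht _) hs2
  have hr3 : ∀ r ∈ G23A.T3.cert.rels, ev t r = 1 := by
    show ∀ r ∈ G23A.T3.rels, ev t r = 1
    rw [G23A.T3.rels_eq]
    exact rels_valid t _ _ (fun q hq => by rw [pwA3 q hq]; exact ht _) hs3
  have c0 := cert_step t G23A.T0.cert G23A.T0.cert_ok hr0 1 (closure_lt_zero t)
  have c1 := cert_step t G23A.T1.cert G23A.T1.cert_ok hr1 _ c0
  have c2 := cert_step t G23A.T2.cert G23A.T2.cert_ok hr2 _ c1
  have c3 := cert_step t G23A.T3.cert G23A.T3.cert_ok hr3 _ c2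
  exact c3

/-- no stem extension of `G₂(3)` has an element of even order in its kernel -/
theorem two_not_dvd (Γ : Type) [Group Γ] [Finite Γ] (σ : Γ →* ↥Gs) (hσ : IsStemExtension σ) :
    ∀ z ∈ σ.ker, ¬ 2 ∣ orderOf z := by
  have : Fact (Nat.Prime 2) := ⟨Nat.prime_two⟩
  refine not_dvd_orderOf_of_pgroup_case 2 ?_ σ hσ
  intro Γ' _ _ σ' hσ' hpk
  exact ker_eq_bot_of_safe 2 4 gA (fun _ => 3) gA_pow (fun _ => by decide) closure_gA srelsA hvalidA
    (fun L _ _ t ht hs => by rw [card_Gs]; exact hboundA L t ht hs) σ' hσ' hpk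

/-! ### elements of orders `7`, `13`, `9` -/

/-- a word of order seven -/
def w7 : List ℕ := [3, 2, 2, 1, 0, 0]

/-- a word of order thirteen -/
def w13 : List ℕ := [3, 2, 1, 0, 0]

/-- a word of order nine -/
def w9 : List ℕ := [0, 2]

theorem w7_lt : ∀ c ∈ w7, c < D0.m := by
  show ∀ c ∈ w7, c < 4
  decide

theorem w13_lt : ∀ c ∈ w13, c < D0.m := by
  show ∀ c ∈ w13, c < 4
  decide

theorem w9_lt : ∀ c ∈ w9, c < D0.m := by
  show ∀ c ∈ w9, c < 4
  decide

theorem w7_pow : D0.chk.all (fun x => Nat.beq (act D0.tab ((List.replicate 7 w7).flatten) x) x) = true := by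
  decide +kernel

theorem w7_ne : D0.chk.any (fun x => !(Nat.beq (act D0.tab ((List.replicate 1 w7).flatten) x) x)) = true := by
  decide +kernel

theorem w13_pow : D0.chk.all (fun x => Nat.beq (act D0.tab ((List.replicate 13 w13).flatten) x) x) = true := by
  decide +kernel

theorem w13_ne : D0.chk.any (fun x => !(Nat.beq (act D0.tab ((List.replicate 1 w13).flatten) x) x)) = true := by
  decide +kernel

theorem w9_pow : D0.chk.all (fun x => Nat.beq (act D0.tab ((List.replicate 9 w9).flatten) x) x) = true := by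
  decide +kernel

theorem w9_ne : D0.chk.any (fun x => !(Nat.beq (act D0.tab ((List.replicate 3 w9).flatten) x) x)) = true := by
  decide +kernel

theorem order_w7 : orderOf (D0.ev w7) = 7 := by
  have : Fact (Nat.Prime 7) := ⟨by norm_num⟩
  apply orderOf_eq_prime (EvTools.pow_eq_one D0 w7 7 w7_lt w7_pow)
  have := EvTools.pow_ne_one D0 w7 1 w7_lt w7_ne
  rwa [pow_one] at this

theorem order_w13 : orderOf (D0.ev w13) = 13 := by
  have : Fact (Nat.Prime 13) := ⟨by norm_num⟩
  apply orderOf_eq_prime (EvTools.pow_eq_one D0 w13 13 w13_lt w13_pow)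
  have := EvTools.pow_ne_one D0 w13 1 w13_lt w13_ne
  rwa [pow_one] at this

theorem order_w9 : orderOf (D0.ev w9) = 9 := by
  have : Fact (Nat.Prime 3) := ⟨Nat.prime_three⟩
  have h1 : ¬ D0.ev w9 ^ 3 ^ 1 = 1 := by
    rw [pow_one]
    exact EvTools.pow_ne_one D0 w9 3 w9_lt w9_ne
  have h2 : D0.ev w9 ^ 3 ^ (1 + 1) = 1 := by
    show D0.ev w9 ^ 9 = 1
    exact EvTools.pow_eq_one D0 w9 9 w9_lt w9_pow
  rw [orderOf_eq_prime_pow h1 h2]
  norm_num

/-- an element of order seven -/
def g7 : ↥Gs := ⟨D0.ev w7, D0.ev_mem 4 w7 w7_lt⟩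

/-- an element of order thirteen -/
def g13 : ↥Gs := ⟨D0.ev w13, D0.ev_mem 4 w13 w13_lt⟩

/-- an element of order nine -/
def g9 : ↥Gs := ⟨D0.ev w9, D0.ev_mem 4 w9 w9_lt⟩

theorem order_g7 : orderOf g7 = 7 := by
  unfold g7
  rw [Subgroup.orderOf_mk]
  exact order_w7

theorem order_g13 : orderOf g13 = 13 := by
  unfold g13
  rw [Subgroup.orderOf_mk]
  exact order_w13

theorem order_g9 : orderOf g9 = 9 := by
  unfold g9
  rw [Subgroup.orderOf_mk]
  exact order_w9

/-- the kernel of a stem extension of `G₂(3)` has exponent dividing `81` -/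
theorem hexp (Γ : Type) [Group Γ] [Finite Γ] (σ : Γ →* ↥Gs) (hσ : IsStemExtension σ) :
    ∀ z ∈ σ.ker, z ^ 81 = 1 := by
  intro z hz
  have h2 := two_not_dvd Γ σ hσ z hz
  have h7 : ¬ 7 ∣ orderOf z :=
    not_dvd_of_cyclic_sylow σ hσ 7 (by norm_num) g7 1 606528
      (by rw [pow_one]; exact order_g7) (by rw [card_Gs]; norm_num) (by norm_num) hz
  have h13 : ¬ 13 ∣ orderOf z :=
    not_dvd_of_cyclic_sylow σ hσ 13 (by norm_num) g13 1 326592
      (by rw [pow_one]; exact order_g13) (by rw [card_Gs]; norm_num) (by norm_num) hz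
  have h9 : z ^ 471744 = 1 :=
    pow_eq_one_of_orderOf σ hσ g9 9 471744 order_g9 (by norm_num) (by rw [card_Gs]) hz
  have hd := orderOf_dvd_of_pow_eq_one h9
  have hcop : (orderOf z).Coprime 5824 := by
    have e : (5824 : ℕ) = 2 ^ 6 * 7 * 13 := by norm_num
    rw [e]
    refine Nat.Coprime.mul_right (Nat.Coprime.mul_right (Nat.Coprime.pow_right 6 ?_) ?_) ?_
    · exact Nat.Coprime.symm ((Nat.Prime.coprime_iff_not_dvd Nat.prime_two).2 h2)
    · exact Nat.Coprime.symm ((Nat.Prime.coprime_iff_not_dvd (by norm_num)).2 h7)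
    · exact Nat.Coprime.symm ((Nat.Prime.coprime_iff_not_dvd (by norm_num)).2 h13)
  have hd2 : orderOf z ∣ 81 := by
    have e : (471744 : ℕ) = 81 * 5824 := by norm_num
    rw [e] at hd
    exact (Nat.Coprime.dvd_mul_right hcop).1 hd
  exact orderOf_dvd_iff_pow_eq_one.1 hd2

end Cfsg.Agent.Lib.Helper93.G23
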