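import Cfsg.Agent.Lib.Helper93.G23.ModData
import Cfsg.Agent.Lib.Helper93.G23D.T3Rels

set_option autoImplicit false
set_option maxRecDepth 1000000
set_option maxHeartbeats 0
set_option Elab.async false

namespace Cfsg.Agent.Lib.Helper93.G23

open Cfsg.Agent.Lib.Helper93.BigPerm Cfsg.Agent.Lib.Helper89.CosetCert Cfsg.Agent.Lib.Helper89.SafePres

theorem vM3_0 : Md.chk ((G23D.T3.srels0.map SRel.word).getD 0 []) 0 1134 = true := by decide +kernel

theorem vM3_1 : Md.chk ((G23D.T3.srels0.map SRel.word).getD 1 []) 0 1134 = true := by decide +kernel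

theorem vM3_2 : Md.chk ((G23D.T3.srels0.map SRel.word).getD 2 []) 0 1134 = true := by decide +kernel

theorem vM3_3 : Md.chk ((G23D.T3.srels0.map SRel.word).getD 3 []) 0 1134 = true := by decide +kernel

theorem vM3_4 : Md.chk ((G23D.T3.srels0.map SRel.word).getD 4 []) 0 1134 = true := by decide +kernel

theorem vM3_5 : Md.chk ((G23D.T3.srels0.map SRel.word).getD 5 []) 0 1134 = true := by decide +kernel

theorem vM3_6 : Md.chk ((G23D.T3.srels0.map SRel.word).getD 6 []) 0 1134 = true := by decide +kernel

theorem vM3_7 : Md.chk ((G23D.T3.srels0.map SRel.word).getD 7 []) 0 1134 = true := by decide +kernel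

theorem vM3_8 : Md.chk ((G23D.T3.srels0.map SRel.word).getD 8 []) 0 1134 = true := by decide +kernel

theorem vM3_9 : Md.chk ((G23D.T3.srels0.map SRel.word).getD 9 []) 0 1134 = true := by decide +kernel

theorem vM3_10 : Md.chk ((G23D.T3.srels0.map SRel.word).getD 10 []) 0 1134 = true := by decide +kernel

theorem vM3_11 : Md.chk ((G23D.T3.srels0.map SRel.word).getD 11 []) 0 1134 = true := by decide +kernel

theorem vM3_12 : Md.chk ((G23D.T3.srels0.map SRel.word).getD 12 []) 0 1134 = true := by decide +kernel

theorem vM3_13 : Md.chk ((G23D.T3.srels0.map SRel.word).getD 13 []) 0 1134 = true := by decide +kernel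

end Cfsg.Agent.Lib.Helper93.G23
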